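import Groth.Agent.StrictSS.K373.GenOpen
import Groth.Agent.FlatMor.K260.DedFlat
import Groth.Agent.ValPrufer.K832.Basic
import Groth.Agent.S0429
import Groth.Agent.S14733
import Groth.Agent.Fga.IntegralSub

/-!
# Schematic closures of subschemes of the generic fibre over a valuation ring
-/

set_option autoImplicit false
universe u
open CategoryTheory CategoryTheory.Limits AlgebraicGeometry TopologicalSpace

namespace K373.Closure

open K373.GenOpen

theorem valuationRing_stalk (R : Type u) [CommRing R] [IsDomain R] [ValuationRing R]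
    (x : Spec (CommRingCat.of R)) : ValuationRing ((Spec (CommRingCat.of R)).presheaf.stalk x) := by
  have h1 := K832.Basic.isPruf_of_valuationRing R x.asIdeal
  let e := (Spec.stalkIso (CommRingCat.of R) x).commRingCatIsoToRingEquiv.symm
  exact Function.Surjective.valuationRing e.toRingHom e.surjective

/-- Sections of the base not vanishing at the generic point are units on schemes over the generic
point. -/
theorem isUnit_appLE {S W : Scheme.{u}} [IsIntegral S] (f : W ⟶ S) (hf : ∀ w : W, f w = genericPoint S)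
    (U : S.Opens) (V : W.Opens) (e : V ≤ f ⁻¹ᵁ U) (a : Γ(S, U)) (ha : a ≠ 0) :
    IsUnit (f.appLE U V e a) := by
  apply RingedSpace.isUnit_of_isUnit_germ
  intro w hw
  have h1 : w ∈ W.basicOpen (f.appLE U V e a) := by
    rw [Scheme.basicOpen_appLE]
    refine ⟨hw, ?_⟩
    change f w ∈ S.basicOpen a
    rw [hf w]
    exact K260.DedFlat.genericPoint_mem_basicOpen U a ha
  exact (W.mem_basicOpen _ w hw).1 h1

theorem flat_of_dominant {R : Type u} [CommRing R] [IsDomain R] [ValuationRing R] {W Y : Scheme.{u}}
    (t : W ⟶ Y) [QuasiCompact t] [IsSchemeTheoreticallyDominant t] (y : Y ⟶ Spec (CommRingCat.of R))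
    (h : ∀ w : W, (t ≫ y) w = genericPoint (Spec (CommRingCat.of R))) : Flat y := by
  rw [K260.DedFlat.flat_iff_nonZeroDivisors (valuationRing_stalk R)]
  intro U V e a b ha hab
  apply t.app_injective V.1
  rw [map_zero]
  have h1 := congrArg (t.app V.1) hab
  rw [map_mul, map_zero] at h1
  have h2 : IsUnit (t.app V.1 (y.appLE U.1 V.1 e a)) := by
    have h3 := isUnit_appLE (t ≫ y) h U.1 (t ⁻¹ᵁ V.1) (by
      intro w hw
      exact e hw) a ha
    have h4 : (t ≫ y).appLE U.1 (t ⁻¹ᵁ V.1) (by intro w hw; exact e hw) =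
        y.appLE U.1 V.1 e ≫ t.app V.1 := by
      rw [Scheme.Hom.app_eq_appLE, Scheme.Hom.appLE_comp_appLE]
    rw [h4] at h3
    exact h3
  exact (h2.mul_right_eq_zero).1 h1

/-- In a space of dimension `≤ 0` there are no strict specializations. -/
theorem eq_of_specializes {X : Type*} [TopologicalSpace X] [T0Space X]
    (h : topologicalKrullDim X ≤ 0) {a b : X} (hab : a ⤳ b) : a = b := by
  by_contra hne
  let A : IrreducibleCloseds X := ⟨closure {a}, isIrreducible_singleton.closure, isClosed_closure⟩
  let B : IrreducibleCloseds X := ⟨closure {b}, isIrreducible_singleton.closure, isClosed_closure⟩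
  have hlt : B < A := by
    refine lt_of_le_of_ne ?_ ?_
    · exact hab.closure_subset
    · intro h
      have h1 : closure {b} = closure {a} := congrArg IrreducibleCloseds.carrier h
      exact hne ((hab.antisymm (specializes_iff_closure_subset.2 h1.symm.subset)).eq)
  have h2 : (1 : WithBot ℕ∞) ≤ Order.krullDim (IrreducibleCloseds X) :=
    Order.one_le_krullDim_iff.2 ⟨B, A, hlt⟩
  have h3 := h2.trans h
  exact absurd h3 (by decide)

theorem apply_fiberι {X Y : Scheme.{u}} (f : X ⟶ Y) (y : Y) (b : f.fiber y) :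
    f (f.fiberι y b) = y := by
  have : f.fiberι y b ∈ Set.range (f.fiberι y) := ⟨b, rfl⟩
  rw [Scheme.Hom.range_fiberι] at this
  exact this

/-- If there are no strict specializations in the fibres, the relative dimension is zero. -/
theorem hasRelDim_zero_of {X Y : Scheme.{u}} (f : X ⟶ Y) (h : ∀ a b : X, a ⤳ b → f a = f b → a = b) :
    Cyc.HasRelDim f 0 := by
  intro y T hT
  have h1 : IsIrreducible T := hT.1
  have hcl : IsClosed T := isClosed_of_mem_irreducibleComponents T hT
  obtain ⟨ξ, hξ⟩ := QuasiSober.sober h1 hcl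
  have h2 : T = {ξ} := by
    refine Set.Subset.antisymm (fun b hb => ?_) (Set.singleton_subset_iff.2 hξ.mem)
    have h3 : ξ ⤳ b := hξ.specializes hb
    have h4 := h _ _ (h3.map (f.fiberι y).continuous) (by
      rw [apply_fiberι, apply_fiberι])
    exact ((f.fiberι y).isEmbedding.injective h4).symm
  have h5 : Subsingleton T := by rw [h2]; infer_instance
  have h6 : Nonempty T := ⟨⟨ξ, hξ.mem⟩⟩
  have h7 : DiscreteTopology T := inferInstance
  apply le_antisymm
  · exact_mod_cast topologicalKrullDim_zero_of_discreteTopology T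
  · have h8 : Nonempty (IrreducibleCloseds T) :=
      ⟨⟨closure {Classical.arbitrary T}, isIrreducible_singleton.closure, isClosed_closure⟩⟩
    exact_mod_cast Order.krullDim_nonneg

/-- The closure of a finite discrete subscheme of the generic fibre has relative dimension zero. -/
theorem hasRelDim_zero {R : Type u} [CommRing R] [IsDomain R] [ValuationRing R] {W Y : Scheme.{u}}
    (t : W ⟶ Y) [IsDominant t] [Finite W] (y : Y ⟶ Spec (CommRingCat.of R)) [LocallyOfFiniteType y]
    [QuasiCompact y] (h : ∀ w : W, (t ≫ y) w = genericPoint (Spec (CommRingCat.of R)))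
    (hgen : ∀ a b : Y, y b = genericPoint (Spec (CommRingCat.of R)) → a ⤳ b → a = b) :
    Cyc.HasRelDim y 0 := by
  apply hasRelDim_zero_of
  intro x z hxz hy
  obtain ⟨w, hw⟩ : ∃ w : W, t w ⤳ x := by
    have h1 : closure (Set.range t) = Set.univ := t.denseRange.closure_eq
    have h2 : x ∈ closure (Set.range t) := by rw [h1]; trivial
    rw [← Set.iUnion_singleton_eq_range, closure_iUnion_of_finite] at h2
    obtain ⟨w, hw⟩ := Set.mem_iUnion.1 h2
    exact ⟨w, specializes_iff_mem_closure.2 hw⟩
  obtain ⟨Z, i, hi, hZ, hi1, hi2⟩ := Groth.Agent.Fga.IntegralSub.exists_integral_closed (t w)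
  have hgz : (i ≫ y) (genericPoint Z) = genericPoint (Spec (CommRingCat.of R)) := by
    rw [Scheme.Hom.comp_apply, hi1]
    exact h w
  have hdom : IsDominant (i ≫ y) := by
    rw [isDominant_iff, DenseRange, dense_iff_closure_eq, ← Set.univ_subset_iff,
      ← genericPoint_closure (α := Spec (CommRingCat.of R))]
    apply closure_mono
    rw [Set.singleton_subset_iff]
    exact ⟨genericPoint Z, hgz⟩
  obtain ⟨x', hx'⟩ : x ∈ Set.range i := by rw [hi2]; exact specializes_iff_mem_closure.1 hw
  obtain ⟨z', hz'⟩ : z ∈ Set.range i := by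
    rw [hi2]; exact specializes_iff_mem_closure.1 (hw.trans hxz)
  have hx'z' : x' ⤳ z' := by
    rw [← hx', ← hz'] at hxz
    exact i.isEmbedding.isInducing.specializes_iff.1 hxz
  set γ := (i ≫ y) x' with hγ
  have hγ' : (i ≫ y) z' = γ := by
    rw [hγ, Scheme.Hom.comp_apply, Scheme.Hom.comp_apply, hx', hz', hy]
  have key := Groth.Agent.S14733.result R (fun p hp => K832.Basic.isPruf_of_valuationRing R p) Z
    (i ≫ y) γ ⟨(i ≫ y).asFiber x'⟩
  have hfg : topologicalKrullDim ↥((i ≫ y).fiber (genericPoint (Spec (CommRingCat.of R)))) ≤ 0 := by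
    have hss : Subsingleton ↥((i ≫ y).fiber (genericPoint (Spec (CommRingCat.of R)))) := by
      have h1 : ∀ a : ↥((i ≫ y).fiber (genericPoint (Spec (CommRingCat.of R)))),
          (i ≫ y).fiberι _ a = genericPoint Z := fun a => by
        have h2 : i (genericPoint Z) ⤳ i ((i ≫ y).fiberι _ a) :=
          (genericPoint_specializes _).map i.continuous
        have h3 := hgen _ _ (apply_fiberι (i ≫ y) _ a) h2
        exact (i.isEmbedding.injective h3).symm
      exact ⟨fun a b => ((i ≫ y).fiberι _).isEmbedding.injective ((h1 a).trans (h1 b).symm)⟩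
    exact topologicalKrullDim_zero_of_discreteTopology _
  have hle : topologicalKrullDim ↥((i ≫ y).fiber γ) ≤ 0 := key.trans_le hfg
  obtain ⟨a, ha⟩ : x' ∈ Set.range ((i ≫ y).fiberι γ) := by
    rw [Scheme.Hom.range_fiberι]; exact rfl
  obtain ⟨b, hb⟩ : z' ∈ Set.range ((i ≫ y).fiberι γ) := by
    rw [Scheme.Hom.range_fiberι]; exact hγ'
  have hab : a ⤳ b := by
    rw [← ha, ← hb] at hx'z'
    exact ((i ≫ y).fiberι γ).isEmbedding.isInducing.specializes_iff.1 hx'z'
  rw [← hx', ← hz', ← ha, ← hb, eq_of_specializes hle hab]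

end K373.Closure
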