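import Groth.Agent.StrictSS.K373.SectionKit
import Groth.Agent.StrictSS.K866.Charts
import Groth.Agent.Ega4dB.SchDense
import Groth.Prelude.Def_StrictSS

/-!
# Domination of stable and semistable modifications by one semistable modification
-/

set_option autoImplicit false
universe u
open CategoryTheory CategoryTheory.Limits AlgebraicGeometry TopologicalSpace

namespace K373.Dom

open K373.GenOpen K373.SectionKit K373.Closure

theorem isOpen_singleton_asFiber {X Y : Scheme.{u}} (f : X ⟶ Y) [LocallyOfFiniteType f]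
    (h0 : Cyc.HasRelDim f 0) (x : X) : IsOpen {f.asFiber x} := by
  rw [← Scheme.Hom.quasiFiniteAt_iff_isOpen_singleton_asFiber,
    K624.QFCodim1.quasiFiniteAt_iff_fibreDimAt]
  exact_mod_cast (K582.FibRelDim.hasRelDim_iff f 0).1 h0 x

theorem locallyQuasiFinite_of_hasRelDim_zero {X Y : Scheme.{u}} (f : X ⟶ Y) [LocallyOfFiniteType f]
    (h0 : Cyc.HasRelDim f 0) : LocallyQuasiFinite f := by
  have key : ∀ (x : X) (y : Y), f x = y → ∀ a : f.fiber y, f.fiberι y a = x → IsOpen {a} := by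
    rintro x _ rfl a ha
    have h3 := isOpen_singleton_asFiber f h0 x
    have h4 : f.asFiber x = a :=
      (f.fiberι _).isEmbedding.injective ((f.fiberι_asFiber x).trans ha.symm)
    rwa [h4] at h3
  rw [locallyQuasiFinite_iff_isDiscrete_preimage_singleton]
  intro y
  have h1 : DiscreteTopology ↥(f.fiber y) := by
    rw [discreteTopology_iff_isOpen_singleton]
    intro a
    exact key _ y (apply_fiberι f y a) a rfl
  simpa [Scheme.Hom.range_fiberι] using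
    (isDiscrete_univ_iff.mpr h1).image (f.fiberι y).isEmbedding.toIsInducing

/-- S15646 over a fixed base. -/
def Cof (R : Type u) [CommRing R] [IsDomain R] : Prop :=
  ∀ {C : Scheme.{u}} (φ : C ⟶ Spec (CommRingCat.of R)) [IsReduced C]
    (_ : StrictSS.IsStrictlySemistable φ (Scheme.emptyTo C))
    (_ : Smooth (pullback.snd φ (Spec.map (CommRingCat.ofHom (algebraMap R (FractionRing R))))))
    {C'' : Scheme.{u}} (g : C'' ⟶ C) (_ : SSMod.IsModification g),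
    ∃ (C' : Scheme.{u}) (fC : C' ⟶ C) (𝓘 : C.IdealSheafData) (e : C' ⟶ C''),
      BlowUp.IsBlowUp fC 𝓘 ∧ BlowUp.IsFiniteTypeIdeal 𝓘 ∧ SSMod.IsModification fC ∧
      StrictSS.IsStrictlySemistable (fC ≫ φ) (Scheme.emptyTo C') ∧ e ≫ g = fC

/-- S15647 over a fixed base. -/
def Und (R : Type u) [CommRing R] [IsDomain R] : Prop :=
  ∀ {C D : Scheme.{u}} (φ : C ⟶ Spec (CommRingCat.of R)) (i : D ⟶ C)
    (_ : SSMod.IsMPCurve φ i) [IsReduced C] [IsReduced D]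
    (_ : SSMod.IsSemistable (pullback.snd φ (Spec.map (CommRingCat.ofHom (algebraMap R (FractionRing R)))))
      (CInt.baseChangeOver i φ (Spec.map (CommRingCat.ofHom (algebraMap R (FractionRing R))))))
    (_ : Smooth (pullback.snd φ (Spec.map (CommRingCat.ofHom (algebraMap R (FractionRing R))))))
    (_ : StrictSS.IsStrictlySemistable φ (Scheme.emptyTo C)),
    ∃ (C' D' : Scheme.{u}) (i' : D' ⟶ C') (fC : C' ⟶ C) (fD : D' ⟶ D) (𝓘 : C.IdealSheafData),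
      BlowUp.IsBlowUp fC 𝓘 ∧ BlowUp.IsFiniteTypeIdeal 𝓘 ∧
      StrictSS.IsStrictSSModification φ i i' fC fD

theorem main (R : Type u) [CommRing R] [IsDomain R] [ValuationRing R] [Finite (PrimeSpectrum R)]
    (H46 : Cof R) (H47 : Und R)
    {C D Cst Dst C' D' C₁ : Scheme.{u}} (i : D ⟶ C) (φ₁ : C₁ ⟶ Spec (CommRingCat.of R))
    [IsReduced C₁] (m : C ⟶ C₁)
    (hC : SSMod.IsMPCurve (m ≫ φ₁) i) [IsReduced C] [IsReduced D]
    (hK : Smooth (pullback.snd (m ≫ φ₁) (Spec.map (CommRingCat.ofHom (algebraMap R (FractionRing R))))))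
    (ist : Dst ⟶ Cst) (fC : Cst ⟶ C) (fD : Dst ⟶ D)
    (hst : SSMod.IsStableModification (m ≫ φ₁) i ist fC fD)
    (i' : D' ⟶ C') (gC : C' ⟶ C) (gD : D' ⟶ D)
    (hss : SSMod.IsSemistableModification (m ≫ φ₁) i i' gC gD)
    (hmod : SSMod.IsModification m) (h₁ : StrictSS.IsStrictlySemistable φ₁ (Scheme.emptyTo C₁))
    (hK₁ : Smooth (pullback.snd φ₁ (Spec.map (CommRingCat.ofHom (algebraMap R (FractionRing R)))))) :
    ∃ (Cb Db : Scheme.{u}) (ib : Db ⟶ Cb) (bC : Cb ⟶ C) (bD : Db ⟶ D) (pC : Cb ⟶ C') (pD : Db ⟶ D')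
      (qC : Cb ⟶ Cst) (qD : Db ⟶ Dst),
      SSMod.IsSemistableModification (m ≫ φ₁) i ib bC bD ∧
      (ib ≫ pC = pD ≫ i' ∧ pC ≫ gC = bC ∧ pD ≫ gD = bD) ∧
      (ib ≫ qC = qD ≫ ist ∧ qC ≫ fC = bC ∧ qD ≫ fD = bD) := by
  -- unpack
  obtain ⟨hφfl, hφlfp, hφqc, hφqs, hφr, hi, hifl, hilfp, hir⟩ := hC
  obtain ⟨hφ₁fl, hφ₁lfp, hφ₁qc, hφ₁qs, hφ₁r, -⟩ := h₁.1
  obtain ⟨⟨⟨hwst, hMst, hmst, hmdst⟩, hSst⟩, -⟩ := hst
  obtain ⟨⟨hwss, hMss, hmss, hmdss⟩, hSss⟩ := hss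
  have hpm : IsProper m := hmod.1
  have hpfC : IsProper fC := hmst.1
  have hpgC : IsProper gC := hmss.1
  have hiφ : (i ≫ m ≫ φ₁) = (i ≫ m) ≫ φ₁ := (Category.assoc _ _ _).symm
  -- the opens of the generic fibres
  let G := gen R
  let W₁ : C₁.Opens := φ₁ ⁻¹ᵁ G
  let W : C.Opens := (m ≫ φ₁) ⁻¹ᵁ G
  let WD : D.Opens := (i ≫ m ≫ φ₁) ⁻¹ᵁ G
  have hmW : IsIso (m ∣_ W₁) := isIso_of_modification φ₁ hφ₁r hK₁ hmod
  have hfW : IsIso (fC ∣_ W) := isIso_of_modification (m ≫ φ₁) hφr hK hmst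
  have hgW : IsIso (gC ∣_ W) := isIso_of_modification (m ≫ φ₁) hφr hK hmss
  have hfD : IsIso (fD ∣_ WD) := isIso_of_modification_zero (i ≫ m ≫ φ₁) hir hmdst
  have hgD : IsIso (gD ∣_ WD) := isIso_of_modification_zero (i ≫ m ≫ φ₁) hir hmdss
  obtain ⟨js, hjs⟩ := exists_section fC W
  obtain ⟨jg, hjg⟩ := exists_section gC W
  -- the closure of the generic fibre in the fibre product
  let P := pullback fC gC
  let w : P ⟶ C := pullback.fst fC gC ≫ fC
  have hw' : w = pullback.snd fC gC ≫ gC := pullback.condition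
  have hpw : IsProper w := inferInstance
  let a : W.toScheme ⟶ P := pullback.lift js jg (hjs.trans hjg.symm)
  have ha : a ≫ w = W.ι := by
    change a ≫ pullback.fst fC gC ≫ fC = W.ι
    rw [← Category.assoc, pullback.lift_fst, hjs]
  have hqcW : QuasiCompact W.ι := quasiCompact_ι (m ≫ φ₁)
  have hqca : QuasiCompact a := by
    have : QuasiCompact (a ≫ w) := by rw [ha]; exact hqcW
    exact QuasiCompact.of_comp a w
  let C₂ := a.image
  let κ : C₂ ⟶ C := a.imageι ≫ w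
  let t : W.toScheme ⟶ C₂ := a.toImage
  have htκ : t ≫ κ = W.ι := by
    change a.toImage ≫ a.imageι ≫ w = W.ι
    rw [Scheme.Hom.toImage_imageι_assoc, ha]
  have htd : IsSchemeTheoreticallyDominant t := K263.ToImage.isSchemeTheoreticallyDominant_toImage a
  have htq : QuasiCompact t := inferInstanceAs (QuasiCompact a.toImage)
  have hpκ : IsProper κ := inferInstance
  have hκW : IsIso (κ ∣_ W) := isIso_restrict_of_section κ W t htκ
  let g₁ : C₂ ⟶ C₁ := κ ≫ m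
  have hpg₁ : IsProper g₁ := inferInstance
  have hgenW : ∀ z : C, z ∈ W → (m ≫ φ₁) z = genericPoint (Spec (CommRingCat.of R)) :=
    fun z hz => eq_genericPoint R hz
  have hfl₂ : Flat (g₁ ≫ φ₁) := by
    refine flat_of_dominant t (g₁ ≫ φ₁) fun z => ?_
    have h1 : t ≫ g₁ ≫ φ₁ = W.ι ≫ m ≫ φ₁ := by
      rw [← htκ]; simp only [g₁, Category.assoc]
    rw [h1, Scheme.Hom.comp_apply]
    exact hgenW _ z.2
  have hg₁W : IsIso (g₁ ∣_ W₁) := by
    rw [morphismRestrict_comp]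
    exact IsIso.comp_isIso' (show IsIso (κ ∣_ m ⁻¹ᵁ W₁) from hκW) hmW
  have hg₁ : SSMod.IsModification g₁ := isModification_of φ₁
  obtain ⟨C₃, fC₁, 𝓘, e, -, -, hfC₁, hss₁, he⟩ := H46 φ₁ h₁ hK₁ g₁ hg₁
  -- the strictly semistable curve over `C`
  let ψ : C₃ ⟶ Spec (CommRingCat.of R) := fC₁ ≫ φ₁
  let β : C₃ ⟶ C := e ≫ κ
  have hβ : β ≫ m = fC₁ := by
    change (e ≫ κ) ≫ m = fC₁
    rw [Category.assoc]; exact he
  obtain ⟨hψfl, hψlfp, hψqc, hψqs, hψr, -⟩ := hss₁.1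
  have hpfC₁ : IsProper fC₁ := hfC₁.1
  have hpβ : IsProper β := by
    have : IsProper (β ≫ m) := by rw [hβ]; exact hpfC₁
    exact IsProper.of_comp β m
  have hfC₁W : IsIso (fC₁ ∣_ W₁) := isIso_of_modification φ₁ hφ₁r hK₁ hfC₁
  have hβψ : β ≫ m ≫ φ₁ = ψ := by
    rw [← Category.assoc, hβ]
  have hβW : IsIso (β ∣_ W) := by
    have h1 : IsIso ((β ≫ m) ∣_ W₁) := by rw [hβ]; exact hfC₁W
    rw [morphismRestrict_comp] at h1
    exact @IsIso.of_isIso_comp_right _ _ _ _ _ (β ∣_ m ⁻¹ᵁ W₁) (m ∣_ W₁) hmW h1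
  have hKψ : Smooth (pullback.snd ψ (Spec.map (CommRingCat.ofHom (algebraMap R (FractionRing R))))) := by
    rw [restrict_iff @Smooth] at hK₁ ⊢
    exact (restrict_of @Smooth φ₁ fC₁).2 hK₁
  -- the closure of the marked points
  obtain ⟨jβ, hjβ⟩ := exists_section β W
  let δ : WD.toScheme ⟶ C₃ := (i ∣_ W) ≫ jβ
  have hδ : δ ≫ β = WD.ι ≫ i := by
    change ((i ∣_ W) ≫ jβ) ≫ β = (i ⁻¹ᵁ W).ι ≫ i
    rw [Category.assoc, hjβ, morphismRestrict_ι]
  have hqcWD : QuasiCompact WD.ι := quasiCompact_ι (i ≫ m ≫ φ₁)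
  have hqcδ : QuasiCompact δ := by
    have : QuasiCompact (δ ≫ β) := by rw [hδ]; infer_instance
    exact QuasiCompact.of_comp δ β
  let D₃ := δ.image
  let i₃ : D₃ ⟶ C₃ := δ.imageι
  have hi₃ : IsClosedImmersion i₃ := inferInstanceAs (IsClosedImmersion δ.imageι)
  let tD : WD.toScheme ⟶ D₃ := δ.toImage
  have htDi : tD ≫ i₃ = δ := δ.toImage_imageι
  have htDd : IsSchemeTheoreticallyDominant tD := K263.ToImage.isSchemeTheoreticallyDominant_toImage δ
  have htDq : QuasiCompact tD := inferInstanceAs (QuasiCompact δ.toImage)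
  obtain ⟨d, hd⟩ := exists_lift_of_dominant tD (i₃ ≫ β) i WD.ι (by
    rw [← Category.assoc, htDi, hδ])
  have hpd : IsProper d := by
    have : IsProper (d ≫ i) := by rw [hd]; infer_instance
    exact IsProper.of_comp d i
  have htDd' : tD ≫ d = WD.ι := by
    rw [← cancel_mono i, Category.assoc, hd, ← Category.assoc, htDi, hδ]
  have hdW : IsIso (d ∣_ WD) := isIso_restrict_of_section d WD tD htDd'
  have hdψ : d ≫ i ≫ m ≫ φ₁ = i₃ ≫ ψ := by
    rw [← hβψ, ← Category.assoc, hd, Category.assoc]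
  have hgenWD : ∀ z : WD.toScheme, (tD ≫ i₃ ≫ ψ) z = genericPoint (Spec (CommRingCat.of R)) := by
    intro z
    have h1 : tD ≫ i₃ ≫ ψ = WD.ι ≫ i ≫ m ≫ φ₁ := by
      rw [← htDd', Category.assoc, hdψ]
    rw [h1, Scheme.Hom.comp_apply]
    exact eq_genericPoint R z.2
  have hfl₃ : Flat (i₃ ≫ ψ) := flat_of_dominant tD (i₃ ≫ ψ) hgenWD
  have hlft₃ : LocallyOfFiniteType (i₃ ≫ ψ) := inferInstance
  have hlfp₃ : LocallyOfFinitePresentation (i₃ ≫ ψ) := Groth.Agent.S0429.result (i₃ ≫ ψ)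
  have hlqf : LocallyQuasiFinite (i ≫ m ≫ φ₁) := locallyQuasiFinite_of_hasRelDim_zero _ hir
  have hfin : Finite WD.toScheme := by
    have h1 := (i ≫ m ≫ φ₁).finite_preimage_singleton (genericPoint (Spec (CommRingCat.of R)))
    have h2 : (WD : Set D) ⊆ (i ≫ m ≫ φ₁) ⁻¹' {genericPoint (Spec (CommRingCat.of R))} :=
      fun z hz => eq_genericPoint R hz
    exact (h1.subset h2).to_subtype
  have hr₃ : Cyc.HasRelDim (i₃ ≫ ψ) 0 := by
    refine hasRelDim_zero tD (i₃ ≫ ψ) hgenWD fun x y hy hxy => ?_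
    have hx : (i₃ ≫ ψ) x = genericPoint (Spec (CommRingCat.of R)) := by
      have h1 : (i₃ ≫ ψ) x ⤳ genericPoint (Spec (CommRingCat.of R)) := by
        rw [← hy]; exact hxy.map (i₃ ≫ ψ).continuous
      exact (h1.antisymm (genericPoint_specializes _)).eq
    have hdx : (i ≫ m ≫ φ₁) (d x) = genericPoint (Spec (CommRingCat.of R)) := by
      rw [← Scheme.Hom.comp_apply, hdψ, hx]
    have hdy : (i ≫ m ≫ φ₁) (d y) = genericPoint (Spec (CommRingCat.of R)) := by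
      rw [← Scheme.Hom.comp_apply, hdψ, hy]
    have hdisc := ((i ≫ m ≫ φ₁).isDiscrete_preimage_singleton
      (genericPoint (Spec (CommRingCat.of R)))).to_subtype
    have h2 : d x ⤳ d y := hxy.map d.continuous
    have h3 : (⟨d x, hdx⟩ : (i ≫ m ≫ φ₁) ⁻¹' {genericPoint (Spec (CommRingCat.of R))}) ⤳
        ⟨d y, hdy⟩ := Topology.IsInducing.subtypeVal.specializes_iff.1 h2
    have h4 : d x = d y := congrArg Subtype.val h3.eq
    exact SectionKit.injective d WD (mem_of_eq _ hdx) h4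
  have hred₃ : IsReduced D₃ := by
    have : IsReduced WD.toScheme := inferInstance
    exact IsSchemeTheoreticallyDominant.isReduced tD
  have hredC₃ : IsReduced C₃ := by
    have h1 : IsReduced (ψ ⁻¹ᵁ G).toScheme := by
      have h2 : IsReduced (φ₁ ⁻¹ᵁ G).toScheme := inferInstance
      have h3 : IsOpenImmersion (fC₁ ∣_ W₁) := by
        have := hfC₁W
        infer_instance
      have h4 : IsReduced (fC₁ ⁻¹ᵁ W₁).toScheme := isReduced_of_isOpenImmersion (fC₁ ∣_ W₁)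
      exact h4
    have h4 : IsSchemeTheoreticallyDominant (ψ ⁻¹ᵁ G).ι :=
      Groth.Agent.Ega4dB.SchDense.isSchemeTheoreticallyDominant_ι _ (dense ψ)
    have h5 : QuasiCompact (ψ ⁻¹ᵁ G).ι := quasiCompact_ι ψ
    exact IsSchemeTheoreticallyDominant.isReduced (ψ ⁻¹ᵁ G).ι
  have hMP₃ : SSMod.IsMPCurve ψ i₃ := ⟨hψfl, hψlfp, hψqc, hψqs, hψr, hi₃, hfl₃, hlfp₃, hr₃⟩
  have hη₃ : SSMod.IsSemistable
      (pullback.snd ψ (Spec.map (CommRingCat.ofHom (algebraMap R (FractionRing R)))))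
      (CInt.baseChangeOver i₃ ψ (Spec.map (CommRingCat.ofHom (algebraMap R (FractionRing R))))) := by
    refine ⟨K971.SSBaseChange.isMPCurve_of_isPullback hMP₃ (IsPullback.of_hasPullback ψ _)
      (K971.SSRestrict.isPullback_baseChangeOver i₃ ψ _),
      Groth.Agent.Sga7.H734.NodalBC.isNodalFamily_of_isPullback (IsPullback.of_hasPullback ψ _)
        (K866.Charts.isSemistable hss₁).2.1, ?_, ?_⟩
    · rw [K971.SSRestrict.baseChangeOver_snd, restrict_iff @Etale, ← hdψ, restrict_of @Etale]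
      have h1 : Etale ((gD ≫ i ≫ m ≫ φ₁) ∣_ G) := by
        have h2 : gD ≫ i ≫ m ≫ φ₁ = i' ≫ gC ≫ m ≫ φ₁ := by
          rw [← Category.assoc, ← hwss, Category.assoc]
        have h3 : Etale (gD ≫ i ≫ m ≫ φ₁) := by rw [h2]; exact hSss.2.2.1
        infer_instance
      exact (restrict_of @Etale (i ≫ m ≫ φ₁) gD).1 h1
    · have h1 : DualGr.nonsmoothPts
          (pullback.snd ψ (Spec.map (CommRingCat.ofHom (algebraMap R (FractionRing R))))) = ∅ := by
        rw [Set.eq_empty_iff_forall_notMem]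
        intro x hx
        apply hx
        exact (Groth.Agent.UnramA.NearPoint.exists_smooth_nhd_iff _ x).1 ⟨⊤, trivial, by
          have := hKψ
          infer_instance⟩
      rw [h1]
      exact Set.disjoint_empty _
  obtain ⟨Cb, Db, ib, fb, fbD, 𝓙, -, -, ⟨hwb, hMb, hmb, hmbD⟩, hSb⟩ :=
    H47 ψ i₃ hMP₃ hη₃ hKψ hss₁
  have hWD : ∀ z : WD.toScheme, (WD.ι ≫ i) z ∈ W := fun z => z.2
  have hei : ∀ (h : C₂ ⟶ C), κ = h → i₃ ≫ e ≫ h = i₃ ≫ β := by rintro _ rfl; rfl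
  -- the map of marked points to `D'`
  obtain ⟨jgD, hjgD⟩ := exists_section gD WD
  obtain ⟨jsD, hjsD⟩ := exists_section fD WD
  have hi' : IsClosedImmersion i' := hMss.2.2.2.2.2.1
  have hist : IsClosedImmersion ist := hMst.2.2.2.2.2.1
  have hκ1 : κ = a.imageι ≫ pullback.fst fC gC ≫ fC := rfl
  have hκ2 : κ = a.imageι ≫ pullback.snd fC gC ≫ gC := by
    rw [hκ1, pullback.condition]
  obtain ⟨dg, hdg⟩ := exists_lift_of_dominant tD
    (i₃ ≫ e ≫ a.imageι ≫ pullback.snd fC gC) i' jgD (by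
      have h1 : (tD ≫ i₃ ≫ e ≫ a.imageι ≫ pullback.snd fC gC) ≫ gC = WD.ι ≫ i := by
        simp only [Category.assoc]
        rw [hei _ hκ2, ← Category.assoc, htDi, hδ]
      have h2 : (jgD ≫ i') ≫ gC = WD.ι ≫ i := by
        rw [Category.assoc, hwss, ← Category.assoc, hjgD]
      exact hom_ext gC W _ _ (h1.trans h2.symm) (fun z => by rw [h1]; exact hWD z))
  obtain ⟨ds, hds⟩ := exists_lift_of_dominant tD
    (i₃ ≫ e ≫ a.imageι ≫ pullback.fst fC gC) ist jsD (by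
      have h1 : (tD ≫ i₃ ≫ e ≫ a.imageι ≫ pullback.fst fC gC) ≫ fC = WD.ι ≫ i := by
        simp only [Category.assoc]
        rw [hei _ hκ1, ← Category.assoc, htDi, hδ]
      have h2 : (jsD ≫ ist) ≫ fC = WD.ι ≫ i := by
        rw [Category.assoc, hwst, ← Category.assoc, hjsD]
      exact hom_ext fC W _ _ (h1.trans h2.symm) (fun z => by rw [h1]; exact hWD z))
  have hbψ : (fb ≫ β) ≫ m ≫ φ₁ = fb ≫ ψ := by
    rw [Category.assoc, hβψ]
  have hpfb : IsProper fb := hmb.1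
  have hpfbD : IsProper fbD := hmbD.1
  have hcomm : ib ≫ fb ≫ β = (fbD ≫ d) ≫ i := by
    rw [Category.assoc, hd, ← Category.assoc, hwb, Category.assoc]
  have hMPb : SSMod.IsMPCurve ((fb ≫ β) ≫ m ≫ φ₁) ib := by rw [hbψ]; exact hMb
  have hUβ : β ⁻¹ᵁ W = ψ ⁻¹ᵁ G := by
    change β ⁻¹ᵁ ((m ≫ φ₁) ⁻¹ᵁ G) = _
    rw [← Scheme.Hom.comp_preimage, hβψ]
  have hUd : d ⁻¹ᵁ WD = (i₃ ≫ ψ) ⁻¹ᵁ G := by
    change d ⁻¹ᵁ ((i ≫ m ≫ φ₁) ⁻¹ᵁ G) = _
    rw [← Scheme.Hom.comp_preimage, hdψ]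
  have hmodb : SSMod.IsModification (fb ≫ β) := by
    have h1 : Flat ((fb ≫ β) ≫ m ≫ φ₁) := hMPb.1
    have h2 : IsIso (fb ∣_ (ψ ⁻¹ᵁ G)) := isIso_of_modification ψ hψr hKψ hmb
    have h3 : IsIso ((fb ≫ β) ∣_ W) := by
      rw [morphismRestrict_comp]
      have h4 : IsIso (fb ∣_ (β ⁻¹ᵁ W)) := by rw [hUβ]; exact h2
      exact IsIso.comp_isIso' h4 hβW
    exact isModification_of (m ≫ φ₁)
  have hmodbD : SSMod.IsModification (fbD ≫ d) := by
    have h1 : Flat ((fbD ≫ d) ≫ i ≫ m ≫ φ₁) := by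
      have h5 : (fbD ≫ d) ≫ i ≫ m ≫ φ₁ = ib ≫ (fb ≫ β) ≫ m ≫ φ₁ := by
        rw [← Category.assoc, ← hcomm]
        simp only [Category.assoc]
      rw [h5]
      exact hMPb.2.2.2.2.2.2.1
    have h2 : IsIso (fbD ∣_ ((i₃ ≫ ψ) ⁻¹ᵁ G)) := isIso_of_modification_zero (i₃ ≫ ψ) hr₃ hmbD
    have h3 : IsIso ((fbD ≫ d) ∣_ WD) := by
      rw [morphismRestrict_comp]
      have h4 : IsIso (fbD ∣_ (d ⁻¹ᵁ WD)) := by rw [hUd]; exact h2
      exact IsIso.comp_isIso' h4 hdW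
    exact isModification_of (i ≫ m ≫ φ₁)
  have hSemb : SSMod.IsSemistable ((fb ≫ β) ≫ m ≫ φ₁) ib := by
    rw [hbψ]; exact K866.Charts.isSemistable hSb
  have hpC : (fb ≫ e ≫ a.imageι ≫ pullback.snd fC gC) ≫ gC = fb ≫ β := by
    simp only [Category.assoc]
    rw [← hκ2]
  have hqC : (fb ≫ e ≫ a.imageι ≫ pullback.fst fC gC) ≫ fC = fb ≫ β := by
    simp only [Category.assoc]
    rw [← hκ1]
  have hpI : ib ≫ fb ≫ e ≫ a.imageι ≫ pullback.snd fC gC = (fbD ≫ dg) ≫ i' := by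
    rw [Category.assoc, hdg, ← Category.assoc, hwb, Category.assoc]
  have hqI : ib ≫ fb ≫ e ≫ a.imageι ≫ pullback.fst fC gC = (fbD ≫ ds) ≫ ist := by
    rw [Category.assoc, hds, ← Category.assoc, hwb, Category.assoc]
  refine ⟨Cb, Db, ib, fb ≫ β, fbD ≫ d, fb ≫ e ≫ a.imageι ≫ pullback.snd fC gC, fbD ≫ dg,
    fb ≫ e ≫ a.imageι ≫ pullback.fst fC gC, fbD ≫ ds,
    ⟨⟨hcomm, hMPb, hmodb, hmodbD⟩, hSemb⟩, ⟨hpI, hpC, ?_⟩, ⟨hqI, hqC, ?_⟩⟩
  · rw [← cancel_mono i, Category.assoc, ← hwss, ← Category.assoc, ← hpI, ← hcomm, ← hpC]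
    simp only [Category.assoc]
  · rw [← cancel_mono i, Category.assoc, ← hwst, ← Category.assoc, ← hqI, ← hcomm, ← hqC]
    simp only [Category.assoc]

end K373.Dom
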