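import Groth.Agent.SSMod.K971.SmoothEta
import Groth.Agent.SSMod.K971.EtaNbhd
import Groth.Agent.FlatMor.K263.ToImage

/-!
# The open generic fibre over a domain with finite spectrum

`gen R` is the open generic point of `Spec R`; for `φ : C ⟶ Spec R` the generic fibre is the open `φ ⁻¹ᵁ gen R`.
* it is schematically dense if `φ` is flat;
* `IsEtaIso φ f` gives `IsIso (f ∣_ (φ ⁻¹ᵁ gen R))`;
* `isIso_restrict_of_section`: a separated morphism with a schematically dominant section over an open `W` is an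
  isomorphism over `W`;
* `exists_lift_of_dominant`: factorization through a closed immersion can be checked after a schematically dominant
  morphism.
-/

set_option autoImplicit false
universe u
open CategoryTheory CategoryTheory.Limits AlgebraicGeometry TopologicalSpace

namespace K373.GenOpen

/-- The open generic point of `Spec R`. -/
noncomputable def gen (R : Type u) [CommRing R] [IsDomain R] [Finite (PrimeSpectrum R)] :
    (Spec (CommRingCat.of R)).Opens :=
  haveI := K971.SmoothEta.isOpenImmersion_fractionRing R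
  (Spec.map (CommRingCat.ofHom (algebraMap R (FractionRing R)))).opensRange

section

variable (R : Type u) [CommRing R] [IsDomain R] [Finite (PrimeSpectrum R)]

theorem genericPoint_mem : genericPoint (Spec (CommRingCat.of R)) ∈ gen R := by
  have := K971.SmoothEta.isOpenImmersion_fractionRing R
  exact ⟨genericPoint (Spec (CommRingCat.of (FractionRing R))), genericPoint_eq_of_isOpenImmersion
    (Spec.map (CommRingCat.ofHom (algebraMap R (FractionRing R))))⟩

theorem eq_genericPoint {x : Spec (CommRingCat.of R)} (hx : x ∈ gen R) :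
    x = genericPoint (Spec (CommRingCat.of R)) := by
  have := K971.SmoothEta.isOpenImmersion_fractionRing R
  obtain ⟨z, rfl⟩ := hx
  have h1 : z = genericPoint (Spec (CommRingCat.of (FractionRing R))) :=
    Subsingleton.elim (α := PrimeSpectrum (FractionRing R)) _ _
  rw [h1]
  exact genericPoint_eq_of_isOpenImmersion
    (Spec.map (CommRingCat.ofHom (algebraMap R (FractionRing R))))

theorem exists_fac_gen : ∃ a : (gen R).toScheme ⟶ Spec ((Spec (CommRingCat.of R)).presheaf.stalk
    (genericPoint (Spec (CommRingCat.of R)))),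
    (gen R).ι = a ≫ (Spec (CommRingCat.of R)).fromSpecStalk (genericPoint (Spec (CommRingCat.of R))) := by
  have := K971.SmoothEta.isOpenImmersion_fractionRing R
  let s := Spec.map (CommRingCat.ofHom (algebraMap R (FractionRing R)))
  obtain ⟨m, hm⟩ := K971.EtaNbhd.exists_fac_fromSpecStalk s (genericPoint (Spec (CommRingCat.of R)))
    (by
      have h1 : IsLocalRing.closedPoint (FractionRing R) =
          genericPoint (Spec (CommRingCat.of (FractionRing R))) :=
        Subsingleton.elim (α := PrimeSpectrum (FractionRing R)) _ _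
      change s (IsLocalRing.closedPoint (FractionRing R)) = _
      rw [h1]
      exact genericPoint_eq_of_isOpenImmersion s)
  refine ⟨s.isoOpensRange.inv ≫ m, ?_⟩
  rw [Category.assoc, hm]
  exact (s.isoOpensRange_inv_comp).symm

variable {R} {C : Scheme.{u}} (φ : C ⟶ Spec (CommRingCat.of R))

theorem mem_of_eq {x : C} (hx : φ x = genericPoint (Spec (CommRingCat.of R))) : x ∈ φ ⁻¹ᵁ gen R := by
  change φ x ∈ gen R
  rw [hx]
  exact genericPoint_mem R

theorem dense [Flat φ] : CInt.IsSchematicallyDense (φ ⁻¹ᵁ gen R) :=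
  K971.EtaNbhd.isSchematicallyDense_of_generic φ _ fun _ hx => mem_of_eq φ hx

theorem exists_fac : ∃ a : (φ ⁻¹ᵁ gen R).toScheme ⟶ Spec ((Spec (CommRingCat.of R)).presheaf.stalk
    (genericPoint (Spec (CommRingCat.of R)))), (φ ⁻¹ᵁ gen R).ι ≫ φ =
      a ≫ (Spec (CommRingCat.of R)).fromSpecStalk (genericPoint (Spec (CommRingCat.of R))) := by
  obtain ⟨a, ha⟩ := exists_fac_gen R
  exact ⟨(φ ∣_ gen R) ≫ a, by rw [Category.assoc, ← ha, morphismRestrict_ι]⟩

theorem isIso_restrict_of_isEtaIso {C' : Scheme.{u}} {f : C' ⟶ C} (h : SSMod.IsEtaIso φ f) :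
    IsIso (f ∣_ (φ ⁻¹ᵁ gen R)) := by
  obtain ⟨a, ha⟩ := exists_fac φ
  exact K971.SSBasic.isIso_of_isEtaIso h (isPullback_morphismRestrict f _).flip a ha

theorem isModification_of {C' : Scheme.{u}} {f : C' ⟶ C} [IsProper f] [Flat φ] [Flat (f ≫ φ)]
    [IsIso (f ∣_ (φ ⁻¹ᵁ gen R))] : SSMod.IsModification f :=
  ⟨inferInstance, _, dense φ, dense (f ≫ φ), inferInstance⟩

theorem isIso_of_modification {C' : Scheme.{u}} {f : C' ⟶ C} [LocallyOfFiniteType φ]
    (hr : Cyc.HasRelDim φ 1)
    (hK : Smooth (pullback.snd φ (Spec.map (CommRingCat.ofHom (algebraMap R (FractionRing R))))))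
    (hf : SSMod.IsModification f) : IsIso (f ∣_ (φ ⁻¹ᵁ gen R)) :=
  isIso_restrict_of_isEtaIso φ (K971.SmoothEta.isEtaIso_of_smooth R φ hr hK f hf)

theorem isIso_of_modification_zero {C' : Scheme.{u}} {f : C' ⟶ C} [Flat φ] [LocallyOfFiniteType φ]
    (hr : Cyc.HasRelDim φ 0) (hf : SSMod.IsModification f) : IsIso (f ∣_ (φ ⁻¹ᵁ gen R)) :=
  isIso_restrict_of_isEtaIso φ (K971.SmoothEta.isEtaIso_of_hasRelDim_zero hr hf)

end

/-- A separated morphism with a schematically dominant section over the open `W` is an isomorphism over `W`. -/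
theorem isIso_restrict_of_section {Y C : Scheme.{u}} (κ : Y ⟶ C) [IsSeparated κ] (W : C.Opens)
    (t : W.toScheme ⟶ Y) (ht : t ≫ κ = W.ι) [QuasiCompact t] [IsSchemeTheoreticallyDominant t] :
    IsIso (κ ∣_ W) := by
  have sq := isPullback_morphismRestrict κ W
  let σ : W.toScheme ⟶ (κ ⁻¹ᵁ W).toScheme := sq.flip.lift t (𝟙 _) (by rw [ht, Category.id_comp])
  have hσ1 : σ ≫ (κ ⁻¹ᵁ W).ι = t := sq.flip.lift_fst _ _ _
  have hσ2 : σ ≫ (κ ∣_ W) = 𝟙 _ := sq.flip.lift_snd _ _ _
  have hsq : IsPullback (𝟙 W.toScheme) σ t (κ ⁻¹ᵁ W).ι := by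
    refine ⟨⟨by rw [hσ1, Category.id_comp]⟩, ⟨PullbackCone.IsLimit.mk _ (fun s => s.fst)
      (fun s => Category.comp_id _) (fun s => ?_) (fun s m h1 h2 => by
        simpa using h1)⟩⟩
    rw [← cancel_mono (κ ⁻¹ᵁ W).ι, Category.assoc, hσ1]
    exact s.condition
  have hd : IsSchemeTheoreticallyDominant σ := IsSchemeTheoreticallyDominant.of_isPullback hsq
  have hc : IsClosedImmersion σ := by
    have h1 : IsClosedImmersion (σ ≫ (κ ∣_ W)) := by rw [hσ2]; infer_instance
    exact IsClosedImmersion.of_comp σ (κ ∣_ W)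
  have hi : IsIso σ := IsClosedImmersion.isIso_iff_ker_eq_bot.2 hd.ker_eq_bot
  have h3 : κ ∣_ W = inv σ := IsIso.eq_inv_of_hom_inv_id hσ2
  rw [h3]
  infer_instance

/-- Factorization through a closed immersion can be checked on a schematically dominant source. -/
theorem exists_lift_of_dominant {T Y D C : Scheme.{u}} (t : T ⟶ Y) [IsSchemeTheoreticallyDominant t]
    (y : Y ⟶ C) (i : D ⟶ C) [IsClosedImmersion i] (z : T ⟶ D) (h : t ≫ y = z ≫ i) :
    ∃ d : Y ⟶ D, d ≫ i = y := by
  have h1 : i.ker ≤ y.ker := by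
    have h2 : (t ≫ y).ker = y.ker := by
      rw [Scheme.Hom.ker_comp, t.ker_eq_bot, Scheme.IdealSheafData.map_bot]
    rw [← h2, h]
    exact Scheme.Hom.le_ker_comp z i
  exact ⟨IsClosedImmersion.lift i y h1, IsClosedImmersion.lift_fac i y h1⟩

end K373.GenOpen
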