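import Groth.Agent.StrictSS.K866.ToGood
import Groth.Agent.StrictSS.K866.MPBack
import Groth.Agent.StrictSS.K373.GenOpen
import Groth.Agent.S1274

/-!
# Domination of modifications by blow-ups, and the final step of S15646
-/

set_option autoImplicit false

universe u

open CategoryTheory CategoryTheory.Limits AlgebraicGeometry BlowUp

namespace K373.JDom

open K866.StepA K866.TOne

variable {R : Type u} [CommRing R] [IsDomain R] [Finite (PrimeSpectrum R)]

theorem isCompact_gen : IsCompact (gen R : Set (Spec (CommRingCat.of R))) := by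
  have h : (gen R : Set (Spec (CommRingCat.of R))).Finite :=
    Set.toFinite (α := PrimeSpectrum R) _
  exact h.isCompact

theorem gen_eq : gen R = K373.GenOpen.gen R := by
  have h0 : ∀ x : (Spec (CommRingCat.of R) : Scheme.{u}), (x : PrimeSpectrum R).asIdeal = ⊥ ↔
      x = genericPoint (Spec (CommRingCat.of R)) := by
    intro x
    have hg : ((genericPoint (Spec (CommRingCat.of R)) : Spec (CommRingCat.of R)) :
        PrimeSpectrum R).asIdeal = ⊥ := by
      have h1 := genericPoint_specializes (α := Spec (CommRingCat.of R))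
        (⟨⊥, Ideal.isPrime_bot⟩ : PrimeSpectrum R)
      have h2 := (PrimeSpectrum.le_iff_specializes _ _).2 h1
      exact le_bot_iff.1 h2
    constructor
    · intro h
      exact PrimeSpectrum.ext (h.trans hg.symm)
    · rintro rfl
      exact hg
  refine TopologicalSpace.Opens.ext (Set.ext fun x => ?_)
  constructor
  · intro hx
    have h1 : x = genericPoint (Spec (CommRingCat.of R)) := (h0 x).1 hx
    subst h1
    exact K373.GenOpen.genericPoint_mem R
  · intro hx
    exact (h0 x).2 (K373.GenOpen.eq_genericPoint R hx)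

variable {C C'' : Scheme.{u}} (φ : C ⟶ Spec (CommRingCat.of R))

theorem isIso_genO {f : C'' ⟶ C} [LocallyOfFiniteType φ] (hr : Cyc.HasRelDim φ 1)
    (hK : Smooth (pullback.snd φ (Spec.map (CommRingCat.ofHom (algebraMap R (FractionRing R))))))
    (hf : SSMod.IsModification f) : IsIso (f ∣_ genO φ) := by
  have h := K373.GenOpen.isIso_of_modification φ hr hK hf
  rw [← gen_eq] at h
  exact h

theorem isCompact_genO [QuasiCompact φ] : IsCompact (genO φ : Set C) :=
  Scheme.Hom.isCompact_preimage φ (U := gen R) isCompact_gen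

/-- A proper morphism which is an isomorphism over the generic fibre is dominated by every morphism making a
suitable finite type ideal, trivial on the generic fibre, effective Cartier. -/
theorem exists_ideal [QuasiCompact φ] [QuasiSeparated φ] (g : C'' ⟶ C) [IsProper g]
    [IsIso (g ∣_ genO φ)] :
    ∃ 𝓙 : C.IdealSheafData, IsFiniteTypeIdeal 𝓙 ∧ Disjoint (𝓙.support : Set C) (genO φ : Set C) ∧
      ∀ (T : Scheme.{u}) (h : T ⟶ C), IsEffCartierIdeal (𝓙.comap h) → ∃ e : T ⟶ C'', e ≫ g = h := by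
  have h3 : CompactSpace C := HasAffineProperty.iff_of_isAffine (P := @QuasiCompact) |>.1 ‹_›
  have h4 : QuasiSeparatedSpace C :=
    HasAffineProperty.iff_of_isAffine (P := @QuasiSeparated) |>.1 ‹_›
  obtain ⟨𝓙, S', b, hb, ⟨hft, hd⟩, e, he⟩ := Groth.Agent.S1274.result g (genO φ) (isCompact_genO φ)
  refine ⟨𝓙, hft, hd, fun T h hh => ?_⟩
  obtain ⟨l, hl, -⟩ := hb.2 T h hh
  exact ⟨l ≫ e, by rw [Category.assoc, he, hl]⟩

/-- The last step of S15646. -/
theorem main [ValuationRing R] [IsReduced C]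
    (HJ : Good φ → ∀ 𝓙 : C.IdealSheafData, IsFiniteTypeIdeal 𝓙 →
      Disjoint (𝓙.support : Set C) (genO φ : Set C) →
      ∃ (C' : Scheme.{u}) (b : C' ⟶ C), Dom φ b ∧ IsEffCartierIdeal (𝓙.comap b))
    (h : StrictSS.IsStrictlySemistable φ (Scheme.emptyTo C))
    (hK : Smooth (pullback.snd φ (Spec.map (CommRingCat.ofHom (algebraMap R (FractionRing R))))))
    (g : C'' ⟶ C) (hg : SSMod.IsModification g) :
    ∃ (C' : Scheme.{u}) (fC : C' ⟶ C) (𝓘 : C.IdealSheafData) (e : C' ⟶ C''),
      BlowUp.IsBlowUp fC 𝓘 ∧ BlowUp.IsFiniteTypeIdeal 𝓘 ∧ SSMod.IsModification fC ∧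
      StrictSS.IsStrictlySemistable (fC ≫ φ) (Scheme.emptyTo C') ∧ e ≫ g = fC := by
  have hφ := K866.ToGood.good_of_isStrictlySemistable h hK
  have h1 := hφ.qc
  have h2 := hφ.qs
  have h5 : LocallyOfFinitePresentation φ := h.1.2.1
  have h6 : Cyc.HasRelDim φ 1 := h.1.2.2.2.2.1
  have hp : IsProper g := hg.1
  have hiso : IsIso (g ∣_ genO φ) := isIso_genO φ h6 hK hg
  obtain ⟨𝓙, hft, hd, hlift⟩ := exists_ideal φ g
  obtain ⟨C', b, hb, heff⟩ := HJ hφ 𝓙 hft hd
  obtain ⟨𝓘, hbu, hft'⟩ := hb.blow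
  obtain ⟨e, he⟩ := hlift C' b heff
  refine ⟨C', b, 𝓘, e, hbu, hft', K866.MPBack.Dom.isModification hφ hb, ?_, he⟩
  exact K866.MPBack.isStrictlySemistable_of_good hb.good (Scheme.emptyTo C') fun d =>
    isEmptyElim (α := (∅ : Scheme.{u})) d

end K373.JDom
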