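import Groth.Agent.StrictSS.K373.Closure
import Groth.Agent.SSMod.K971.BaseChange

/-!
# Sections over opens where a morphism is an isomorphism
-/

set_option autoImplicit false
universe u
open CategoryTheory CategoryTheory.Limits AlgebraicGeometry TopologicalSpace

namespace K373.SectionKit

open K373.GenOpen

theorem exists_section {Y C : Scheme.{u}} (f : Y ⟶ C) (W : C.Opens) [IsIso (f ∣_ W)] :
    ∃ j : W.toScheme ⟶ Y, j ≫ f = W.ι := by
  refine ⟨inv (f ∣_ W) ≫ (f ⁻¹ᵁ W).ι, ?_⟩
  rw [Category.assoc, ← morphismRestrict_ι, IsIso.inv_hom_id_assoc]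

/-- Uniqueness of liftings over an open where `f` is an isomorphism. -/
theorem hom_ext {T Y C : Scheme.{u}} (f : Y ⟶ C) (W : C.Opens) [IsIso (f ∣_ W)] (u v : T ⟶ Y)
    (h : u ≫ f = v ≫ f) (hW : ∀ t : T, (u ≫ f) t ∈ W) : u = v := by
  have hu : Set.range u ⊆ Set.range (f ⁻¹ᵁ W).ι := by
    rintro _ ⟨t, rfl⟩
    rw [Scheme.Opens.range_ι]
    exact hW t
  have hv : Set.range v ⊆ Set.range (f ⁻¹ᵁ W).ι := by
    rintro _ ⟨t, rfl⟩
    rw [Scheme.Opens.range_ι]
    have := hW t
    rw [h] at this
    exact this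
  have h1 : IsOpenImmersion.lift (f ⁻¹ᵁ W).ι u hu = IsOpenImmersion.lift (f ⁻¹ᵁ W).ι v hv := by
    rw [← cancel_mono (f ∣_ W), ← cancel_mono W.ι, Category.assoc, Category.assoc,
      morphismRestrict_ι, IsOpenImmersion.lift_fac_assoc, IsOpenImmersion.lift_fac_assoc, h]
  rw [← IsOpenImmersion.lift_fac (f ⁻¹ᵁ W).ι u hu, h1, IsOpenImmersion.lift_fac]

/-- Injectivity on points over an open where `f` is an isomorphism. -/
theorem injective {Y C : Scheme.{u}} (f : Y ⟶ C) (W : C.Opens) [IsIso (f ∣_ W)] {a b : Y}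
    (ha : f a ∈ W) (h : f a = f b) : a = b := by
  have hb : f b ∈ W := h ▸ ha
  have h1 : (f ∣_ W) ⟨a, ha⟩ = (f ∣_ W) ⟨b, hb⟩ := by
    apply W.ι.isOpenEmbedding.injective
    rw [← Scheme.Hom.comp_apply, ← Scheme.Hom.comp_apply, morphismRestrict_ι,
      Scheme.Hom.comp_apply, Scheme.Hom.comp_apply]
    exact h
  have h2 := (f ∣_ W).homeomorph.injective h1
  exact congrArg Subtype.val h2

section

variable {R : Type u} [CommRing R] [IsDomain R] [Finite (PrimeSpectrum R)]

instance quasiCompact_gen : QuasiCompact (gen R).ι := by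
  have := K971.SmoothEta.isOpenImmersion_fractionRing R
  have hs : QuasiCompact (Spec.map (CommRingCat.ofHom (algebraMap R (FractionRing R)))) :=
    inferInstance
  let s := Spec.map (CommRingCat.ofHom (algebraMap R (FractionRing R)))
  have h : (gen R).ι = s.isoOpensRange.inv ≫ s := (s.isoOpensRange_inv_comp).symm
  rw [h]
  exact MorphismProperty.comp_mem _ _ _ inferInstance hs

instance quasiCompact_ι {C : Scheme.{u}} (φ : C ⟶ Spec (CommRingCat.of R)) :
    QuasiCompact (φ ⁻¹ᵁ gen R).ι :=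
  MorphismProperty.of_isPullback (P := @QuasiCompact) (isPullback_morphismRestrict φ (gen R))
    quasiCompact_gen

/-- Properties of the generic fibre: base change to `Spec K` versus restriction over `gen R`. -/
theorem restrict_iff (P : MorphismProperty Scheme.{u}) [P.IsStableUnderBaseChange] {C : Scheme.{u}}
    (φ : C ⟶ Spec (CommRingCat.of R)) :
    P (pullback.snd φ (Spec.map (CommRingCat.ofHom (algebraMap R (FractionRing R))))) ↔
      P (φ ∣_ gen R) := by
  have := K971.SmoothEta.isOpenImmersion_fractionRing R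
  let s := Spec.map (CommRingCat.ofHom (algebraMap R (FractionRing R)))
  have h : (gen R).ι = s.isoOpensRange.inv ≫ s := (s.isoOpensRange_inv_comp).symm
  have h' : s = s.isoOpensRange.hom ≫ (gen R).ι := by rw [h, Iso.hom_inv_id_assoc]
  constructor
  · intro hP
    have sq := (isPullback_morphismRestrict φ (gen R)).flip
    rw [h] at sq
    exact MorphismProperty.of_isPullback
      (IsPullback.of_right' sq (IsPullback.of_hasPullback φ s)) hP
  · intro hP
    have sq := IsPullback.of_hasPullback φ s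
    rw [h'] at sq
    have h3 := IsPullback.of_right' sq (isPullback_morphismRestrict φ (gen R)).flip
    have h4 : P (pullback.snd φ (s.isoOpensRange.hom ≫ (gen R).ι)) :=
      MorphismProperty.of_isPullback h3 hP
    rw [← h'] at h4
    exact h4

theorem restrict_of (P : MorphismProperty Scheme.{u}) [P.IsStableUnderBaseChange]
    [P.RespectsIso] {C' C : Scheme.{u}} (φ : C ⟶ Spec (CommRingCat.of R)) (f : C' ⟶ C)
    [IsIso (f ∣_ (φ ⁻¹ᵁ gen R))] :
    P ((f ≫ φ) ∣_ gen R) ↔ P (φ ∣_ gen R) := by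
  rw [morphismRestrict_comp]
  exact P.cancel_left_of_respectsIso (f ∣_ (φ ⁻¹ᵁ gen R)) (φ ∣_ gen R)

end

end K373.SectionKit
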